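import Mathlib
import Cfsg.Prelude.Def_ClassicalGeometry
import Cfsg.Agent.Lib.helper6.Symp
import Cfsg.Agent.Lib.Helper18.SpE.Defs

set_option autoImplicit false

/-! # Project WSP (S2347): definitions

Minimal degree of `Sp_{2n}(q)`, `q` odd, and the Weil representation.

* abstract part: Weyl systems `π : V → End W` with `π v * π w = c v w • π (v + w)`, the group of
  pairs `(g, M)` with `M` intertwining `π` and `π ∘ g`;
* concrete part: the Weyl operators on functions `F^n → ℂ`, the action of the symplectic group on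
  `F^(2n)`, the explicit operators on the Siegel parabolic, odd functions;
* lower bound: the orbit bound for quadratic forms in odd characteristic. -/

namespace Cfsg.Agent.Lib.Helper27.WSP

open Matrix

section abstract

variable {V : Type*} [AddCommGroup V] {W : Type*} [AddCommGroup W] [Module ℂ W]

/-- a Weyl system: a projective representation `π` of the finite abelian group `V` on `W` with
cocycle `c`, whose operators are trace-orthogonal and as many as `dim End W` -/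
structure IsWeyl [Fintype V] [FiniteDimensional ℂ W] (c : V → V → ℂ)
    (π : V → Module.End ℂ W) : Prop where
  mul : ∀ v w, π v * π w = c v w • π (v + w)
  zero : π 0 = 1
  c_ne : ∀ v w, c v w ≠ 0
  trace_zero : ∀ v, v ≠ 0 → LinearMap.trace ℂ W (π v) = 0
  card : Fintype.card V = Module.finrank ℂ W ^ 2
  pos : 0 < Module.finrank ℂ W

variable {G : Type*} [Group G]

theorem act_mul (a : G →* AddMonoid.End V) (g h : G) (v : V) : a (g * h) v = a g (a h v) := by
  rw [map_mul]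
  rfl

theorem act_one (a : G →* AddMonoid.End V) (v : V) : a 1 v = v := by
  rw [map_one]
  rfl

theorem act_inv_cancel (a : G →* AddMonoid.End V) (g : G) (v : V) : a g (a g⁻¹ v) = v := by
  rw [← act_mul, mul_inv_cancel, act_one]

theorem act_cancel_inv (a : G →* AddMonoid.End V) (g : G) (v : V) : a g⁻¹ (a g v) = v := by
  rw [← act_mul, inv_mul_cancel, act_one]

/-- the pairs `(g, M)` with `M π(v) = π(g v) M` for all `v` and `(det M)^N = 1` -/
def liftGroup (π : V → Module.End ℂ W) (a : G →* AddMonoid.End V) (N : ℕ) :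
    Subgroup (G × (Module.End ℂ W)ˣ) where
  carrier := {x | (∀ v, (x.2 : Module.End ℂ W) * π v = π (a x.1 v) * (x.2 : Module.End ℂ W)) ∧
    LinearMap.det (x.2 : Module.End ℂ W) ^ N = 1}
  mul_mem' := by
    rintro x y ⟨hx1, hx2⟩ ⟨hy1, hy2⟩
    refine ⟨fun v => ?_, ?_⟩
    · show ((x.2 * y.2 : (Module.End ℂ W)ˣ) : Module.End ℂ W) * π v =
        π (a (x.1 * y.1) v) * ((x.2 * y.2 : (Module.End ℂ W)ˣ) : Module.End ℂ W)
      rw [Units.val_mul, mul_assoc, hy1 v, ← mul_assoc, hx1, mul_assoc, act_mul]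
    · show LinearMap.det ((x.2 * y.2 : (Module.End ℂ W)ˣ) : Module.End ℂ W) ^ N = 1
      rw [Units.val_mul, map_mul, mul_pow, hx2, hy2, one_mul]
  one_mem' := by
    refine ⟨fun v => ?_, ?_⟩
    · show ((1 : (Module.End ℂ W)ˣ) : Module.End ℂ W) * π v =
        π (a (1 : G) v) * ((1 : (Module.End ℂ W)ˣ) : Module.End ℂ W)
      rw [Units.val_one, one_mul, mul_one, act_one]
    · show LinearMap.det ((1 : (Module.End ℂ W)ˣ) : Module.End ℂ W) ^ N = 1
      rw [Units.val_one, map_one, one_pow]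
  inv_mem' := by
    rintro x ⟨hx1, hx2⟩
    refine ⟨fun v => ?_, ?_⟩
    · show ((x.2⁻¹ : (Module.End ℂ W)ˣ) : Module.End ℂ W) * π v =
        π (a (x.1⁻¹) v) * ((x.2⁻¹ : (Module.End ℂ W)ˣ) : Module.End ℂ W)
      have h := hx1 (a (x.1⁻¹) v)
      have e : a x.1 (a (x.1⁻¹) v) = v := act_inv_cancel a x.1 v
      rw [e] at h
      calc ((x.2⁻¹ : (Module.End ℂ W)ˣ) : Module.End ℂ W) * π v
          = ((x.2⁻¹ : (Module.End ℂ W)ˣ) : Module.End ℂ W) * (π v * (x.2 : Module.End ℂ W)) *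
              ((x.2⁻¹ : (Module.End ℂ W)ˣ) : Module.End ℂ W) := by
            rw [mul_assoc, mul_assoc, Units.mul_inv, mul_one]
        _ = ((x.2⁻¹ : (Module.End ℂ W)ˣ) : Module.End ℂ W) *
              ((x.2 : Module.End ℂ W) * π (a (x.1⁻¹) v)) *
              ((x.2⁻¹ : (Module.End ℂ W)ˣ) : Module.End ℂ W) := by rw [h]
        _ = π (a (x.1⁻¹) v) * ((x.2⁻¹ : (Module.End ℂ W)ˣ) : Module.End ℂ W) := by
            rw [← mul_assoc, Units.inv_mul, one_mul]
    · show LinearMap.det ((x.2⁻¹ : (Module.End ℂ W)ˣ) : Module.End ℂ W) ^ N = 1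
      have h1 : LinearMap.det ((x.2⁻¹ : (Module.End ℂ W)ˣ) : Module.End ℂ W) *
          LinearMap.det (x.2 : Module.End ℂ W) = 1 := by
        rw [← map_mul, Units.inv_mul, map_one]
      have h2 := congrArg (fun t => t ^ N) h1
      simp only [mul_pow, hx2, mul_one, one_pow] at h2
      exact h2

theorem mem_liftGroup {π : V → Module.End ℂ W} {a : G →* AddMonoid.End V} {N : ℕ}
    {x : G × (Module.End ℂ W)ˣ} :
    x ∈ liftGroup π a N ↔
      (∀ v, (x.2 : Module.End ℂ W) * π v = π (a x.1 v) * (x.2 : Module.End ℂ W)) ∧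
        LinearMap.det (x.2 : Module.End ℂ W) ^ N = 1 := Iff.rfl

end abstract

section concrete

variable {F : Type*} [Field F] {n : ℕ}

/-- the left half `(v_{inl i})_i` of a vector of `F^(2n)` -/
def vl (v : Fin n ⊕ Fin n → F) : Fin n → F := fun i => v (Sum.inl i)

/-- the right half `(v_{inr i})_i` of a vector of `F^(2n)` -/
def vr (v : Fin n ⊕ Fin n → F) : Fin n → F := fun i => v (Sum.inr i)

/-- the Weyl operator `(π(a,b) f)(x) = ψ(a·x + a·b/2) f(x + b)` on functions `F^n → ℂ`,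
for `v = (a, b)`, `a = vl v`, `b = vr v` -/
def weyl (ψ : AddChar F ℂ) (v : Fin n ⊕ Fin n → F) : Module.End ℂ ((Fin n → F) → ℂ) where
  toFun f := fun x => ψ (vl v ⬝ᵥ x + 2⁻¹ * (vl v ⬝ᵥ vr v)) * f (x + vr v)
  map_add' f f' := by
    funext x
    simp only [Pi.add_apply, mul_add]
  map_smul' z f := by
    funext x
    simp only [Pi.smul_apply, smul_eq_mul, RingHom.id_apply]
    ring

theorem weyl_apply (ψ : AddChar F ℂ) (v : Fin n ⊕ Fin n → F) (f : (Fin n → F) → ℂ)
    (x : Fin n → F) :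
    weyl ψ v f x = ψ (vl v ⬝ᵥ x + 2⁻¹ * (vl v ⬝ᵥ vr v)) * f (x + vr v) := rfl

/-- the cocycle of the Weyl operators -/
noncomputable def wc (ψ : AddChar F ℂ) (v w : Fin n ⊕ Fin n → F) : ℂ :=
  ψ (2⁻¹ * Cfsg.sympForm n F v w)

/-- the action of the symplectic group on `F^(2n)`, by additive endomorphisms -/
def spAct (n : ℕ) (F : Type*) [Field F] :
    ↥(Matrix.symplecticGroup (Fin n) F) →* AddMonoid.End (Fin n ⊕ Fin n → F) where
  toFun g :=
    { toFun := fun v => (g : Matrix (Fin n ⊕ Fin n) (Fin n ⊕ Fin n) F) *ᵥ v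
      map_zero' := Matrix.mulVec_zero _
      map_add' := fun v w => Matrix.mulVec_add _ v w }
  map_one' := by
    ext v : 1
    show ((1 : ↥(Matrix.symplecticGroup (Fin n) F)) :
      Matrix (Fin n ⊕ Fin n) (Fin n ⊕ Fin n) F) *ᵥ v = v
    rw [Submonoid.coe_one, Matrix.one_mulVec]
  map_mul' g h := by
    ext v : 1
    show ((g * h : ↥(Matrix.symplecticGroup (Fin n) F)) :
      Matrix (Fin n ⊕ Fin n) (Fin n ⊕ Fin n) F) *ᵥ v =
        (g : Matrix (Fin n ⊕ Fin n) (Fin n ⊕ Fin n) F) *ᵥ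
          ((h : Matrix (Fin n ⊕ Fin n) (Fin n ⊕ Fin n) F) *ᵥ v)
    rw [Submonoid.coe_mul, Matrix.mulVec_mulVec]

theorem spAct_apply (g : ↥(Matrix.symplecticGroup (Fin n) F)) (v : Fin n ⊕ Fin n → F) :
    spAct n F g v = (g : Matrix (Fin n ⊕ Fin n) (Fin n ⊕ Fin n) F) *ᵥ v := rfl

/-- the explicit operator attached to a symplectic matrix `[[A, C], [*, *]]`:
`(M f)(x) = ψ(- xᵀ (C Aᵀ) x / 2) f(Aᵀ x)`; it intertwines the Weyl operators when the lower left
block vanishes -/
def Mexp (ψ : AddChar F ℂ) (g : ↥(Matrix.symplecticGroup (Fin n) F)) :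
    Module.End ℂ ((Fin n → F) → ℂ) where
  toFun f := fun x =>
    ψ (-(2⁻¹ * (x ⬝ᵥ ((g : Matrix (Fin n ⊕ Fin n) (Fin n ⊕ Fin n) F).toBlocks₁₂ *
      ((g : Matrix (Fin n ⊕ Fin n) (Fin n ⊕ Fin n) F).toBlocks₁₁)ᵀ) *ᵥ x))) *
      f (((g : Matrix (Fin n ⊕ Fin n) (Fin n ⊕ Fin n) F).toBlocks₁₁)ᵀ *ᵥ x)
  map_add' f f' := by
    funext x
    simp only [Pi.add_apply, mul_add]
  map_smul' z f := by
    funext x
    simp only [Pi.smul_apply, smul_eq_mul, RingHom.id_apply]
    ring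

theorem Mexp_apply (ψ : AddChar F ℂ) (g : ↥(Matrix.symplecticGroup (Fin n) F))
    (f : (Fin n → F) → ℂ) (x : Fin n → F) :
    Mexp ψ g f x =
      ψ (-(2⁻¹ * (x ⬝ᵥ ((g : Matrix (Fin n ⊕ Fin n) (Fin n ⊕ Fin n) F).toBlocks₁₂ *
        ((g : Matrix (Fin n ⊕ Fin n) (Fin n ⊕ Fin n) F).toBlocks₁₁)ᵀ) *ᵥ x))) *
        f (((g : Matrix (Fin n ⊕ Fin n) (Fin n ⊕ Fin n) F).toBlocks₁₁)ᵀ *ᵥ x) := rfl

/-- `f ↦ f(-x)` -/
def negOp (n : ℕ) (F : Type*) [Field F] : Module.End ℂ ((Fin n → F) → ℂ) where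
  toFun f := fun x => f (-x)
  map_add' f f' := by
    funext x
    simp only [Pi.add_apply]
  map_smul' z f := by
    funext x
    simp only [Pi.smul_apply, RingHom.id_apply]

theorem negOp_apply (f : (Fin n → F) → ℂ) (x : Fin n → F) : negOp n F f x = f (-x) := rfl

/-- the odd functions -/
def Wodd (n : ℕ) (F : Type*) [Field F] : Submodule ℂ ((Fin n → F) → ℂ) where
  carrier := {f | ∀ x, f (-x) = -f x}
  add_mem' := by
    intro f f' hf hf' x
    rw [Pi.add_apply, Pi.add_apply, hf x, hf' x, neg_add]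
  zero_mem' := by
    intro x
    simp
  smul_mem' := by
    intro z f hf x
    rw [Pi.smul_apply, Pi.smul_apply, hf x, smul_neg]

theorem mem_Wodd {f : (Fin n → F) → ℂ} : f ∈ Wodd n F ↔ ∀ x, f (-x) = -f x := Iff.rfl

/-- an intertwining family of operators for the action of the symplectic group -/
def Intertwines (ψ : AddChar F ℂ)
    (ω : ↥(Matrix.symplecticGroup (Fin n) F) →* (Module.End ℂ ((Fin n → F) → ℂ))ˣ) : Prop :=
  ∀ (g : ↥(Matrix.symplecticGroup (Fin n) F)) (v : Fin n ⊕ Fin n → F),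
    (ω g : Module.End ℂ ((Fin n → F) → ℂ)) * weyl ψ v =
      weyl ψ (spAct n F g v) * (ω g : Module.End ℂ ((Fin n → F) → ℂ))

end concrete

section lower

open Cfsg.Agent.Lib.Helper18.SpE

/-- the orbit bound in odd characteristic: a stable set of quadratic forms on `V` with a nonzero
member has at least `(|V| - 1) / 2` members -/
def QBoundOdd (F : Type*) [Field F] (V : Type*) [AddCommGroup V] [Module F V] : Prop :=
  ∀ 𝒬 : Set (QuadraticForm F V), Stable 𝒬 → (∃ Q ∈ 𝒬, Q ≠ 0) → Nat.card V - 1 ≤ 2 * 𝒬.ncard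

end lower

end Cfsg.Agent.Lib.Helper27.WSP
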