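import Cfsg.Agent.Lib.Helper27.WSP.Defs
import Cfsg.Agent.Lib.Helper25.WSPC3
import Cfsg.Agent.Lib.helper4.WSPC4
import Cfsg.Agent.Lib.helper4.WSPC5
import Cfsg.Agent.Lib.helper23.WSPO2
import Cfsg.Agent.Lib.Helper25.WSPO3
import Cfsg.Agent.Lib.helper6.WSPO5
import Cfsg.Agent.Lib.Helper19.WSPL3
import Cfsg.Agent.Lib.helper2.WSPR1
import Cfsg.Agent.Lib.helper2.WSPR2
import Cfsg.Agent.Lib.Helper27.SpFusA
import Cfsg.Agent.S0269

set_option autoImplicit false

namespace Cfsg.Agent.Lib.Helper27.WSP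

open Matrix

section existAsm

universe u

variable {F : Type u} [Field F] [Fintype F]

/-- the explicit representation of the unitriangular subgroup, as a monoid homomorphism -/
noncomputable def mexpHom (n : ℕ) (ψ : AddChar F ℂ) :
    ↥(Cfsg.Agent.Lib.helper14.SpBN.Uup n F) →* Module.End ℂ ((Fin n → F) → ℂ) where
  toFun g := Mexp ψ (g : ↥(Matrix.symplecticGroup (Fin n) F))
  map_one' := Mexp_one ψ
  map_mul' g h := Mexp_mul ψ _ _ (Uup_toBlocks₂₁ _ g.2) (Uup_toBlocks₂₁ _ h.2)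

/-- the explicit representation of the unitriangular subgroup -/
noncomputable def sUup (n : ℕ) (ψ : AddChar F ℂ) :
    ↥(Cfsg.Agent.Lib.helper14.SpBN.Uup n F) →* (Module.End ℂ ((Fin n → F) → ℂ))ˣ :=
  (mexpHom n ψ).toHomUnits

theorem sUup_val (n : ℕ) (ψ : AddChar F ℂ) (g : ↥(Cfsg.Agent.Lib.helper14.SpBN.Uup n F)) :
    ((sUup n ψ g : (Module.End ℂ ((Fin n → F) → ℂ))ˣ) : Module.End ℂ ((Fin n → F) → ℂ)) =
      Mexp ψ (g : ↥(Matrix.symplecticGroup (Fin n) F)) := rfl

/-- the representation on the odd functions -/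
noncomputable def rhoOdd (n : ℕ) (hodd : Odd (Fintype.card F)) (ψ : AddChar F ℂ) (hψ : ψ ≠ 1)
    (ω : ↥(Matrix.symplecticGroup (Fin n) F) →* (Module.End ℂ ((Fin n → F) → ℂ))ˣ)
    (hω : Intertwines ψ ω) :
    Representation ℂ ↥(Matrix.symplecticGroup (Fin n) F) ↥(Wodd n F) where
  toFun g := (ω g : Module.End ℂ ((Fin n → F) → ℂ)).restrict
    (fun f hf => Wodd_invariant hodd ψ hψ ω hω g f hf)
  map_one' := by
    apply LinearMap.ext
    intro f
    apply Subtype.ext
    rw [LinearMap.coe_restrict_apply, map_one, Units.val_one]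
    rfl
  map_mul' g h := by
    apply LinearMap.ext
    intro f
    apply Subtype.ext
    rw [LinearMap.coe_restrict_apply, map_mul, Units.val_mul]
    rfl

theorem rhoOdd_apply (n : ℕ) (hodd : Odd (Fintype.card F)) (ψ : AddChar F ℂ) (hψ : ψ ≠ 1)
    (ω : ↥(Matrix.symplecticGroup (Fin n) F) →* (Module.End ℂ ((Fin n → F) → ℂ))ˣ)
    (hω : Intertwines ψ ω) (g : ↥(Matrix.symplecticGroup (Fin n) F)) (f : ↥(Wodd n F)) :
    ((rhoOdd n hodd ψ hψ ω hω g f : ↥(Wodd n F)) : (Fin n → F) → ℂ) =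
      (ω g : Module.End ℂ ((Fin n → F) → ℂ)) (f : (Fin n → F) → ℂ) := rfl

/-- existence of the Weil representation of degree `(q^n - 1) / 2` -/
theorem exists_weil (n : ℕ) (hn : 2 ≤ n) (hodd : Odd (Fintype.card F))
    (hLB : ∀ (k : ℕ) (ρ : Representation ℂ ↥(Matrix.symplecticGroup (Fin n) F) (Fin k → ℂ)),
      ρ.IsIrreducible → 2 ≤ k → Fintype.card F ^ n - 1 ≤ 2 * k) :
    ∃ ρ : Representation ℂ ↥(Matrix.symplecticGroup (Fin n) F)
      (Fin ((Fintype.card F ^ n - 1) / 2) → ℂ), ρ.IsIrreducible := by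
  classical
  -- the characteristic
  set p := ringChar F with hp
  haveI : CharP F p := ringChar.charP F
  haveI : Fact p.Prime := ⟨CharP.char_is_prime F p⟩
  have hp2 : p ≠ 2 := by
    intro h
    have := FiniteField.even_card_iff_char_two.mp h
    rw [← Nat.not_even_iff_odd] at hodd
    exact hodd (Nat.even_iff.mpr this)
  have h2 : (2 : F) ≠ 0 := Ring.two_ne_zero hp2
  have hq3 : 3 ≤ Fintype.card F := by
    have h3 : 1 < Fintype.card F := Fintype.one_lt_card
    obtain ⟨r, hr⟩ := hodd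
    omega
  -- a nontrivial additive character of F
  obtain ⟨ψ, hψ⟩ : ∃ ψ : AddChar F ℂ, ψ ≠ 1 := by
    obtain ⟨ψ, hψ⟩ := (AddChar.exists_apply_ne_zero (α := F) (a := 1)).mpr one_ne_zero
    refine ⟨ψ, fun h => hψ ?_⟩
    rw [h, AddChar.one_apply]
  have hW := isWeyl_weyl (n := n) h2 ψ hψ
  -- the dimension is a power of p
  have hd : ∃ e, Module.finrank ℂ ((Fin n → F) → ℂ) = p ^ e := by
    obtain ⟨f, _, hf⟩ := FiniteField.card F p
    refine ⟨f * n, ?_⟩
    rw [Module.finrank_pi, Fintype.card_fun, Fintype.card_fin, hf, pow_mul]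
  -- the Sylow subgroup
  have hm : 0 < n := by omega
  have hP : IsPGroup p ↥(Cfsg.Agent.Lib.helper14.SpBN.Uup n F) :=
    (Cfsg.Agent.Lib.Helper27.SpFus.uSylow (K := F) hm p).isPGroup'
  have hidx : ¬ p ∣ (Cfsg.Agent.Lib.helper14.SpBN.Uup n F).index :=
    (Cfsg.Agent.Lib.Helper27.SpFus.uSylow (K := F) hm p).not_dvd_index
  obtain ⟨ω, hω'⟩ := exists_lift hW (spAct n F) (fun g v w => wc_spAct ψ g v w) p hd
    (Cfsg.Agent.Lib.helper14.SpBN.Uup n F) hP hidx (sUup n ψ)
    (fun g v => by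
      rw [sUup_val]
      exact Mexp_weyl h2 ψ _ (Uup_toBlocks₂₁ _ g.2) v)
  have hω : Intertwines ψ ω := fun g v => hω' g v
  -- the representation on the odd functions
  set σ := rhoOdd n hodd ψ hψ ω hω with hσ
  have hfr : Module.finrank ℂ ↥(Wodd n F) = (Fintype.card F ^ n - 1) / 2 := finrank_Wodd hodd
  have hperf : commutator ↥(Matrix.symplecticGroup (Fin n) F) = ⊤ :=
    Cfsg.Agent.S0269.result n (by
      rcases Nat.lt_or_ge 2 n with h | h
      · exact Or.inl h
      · exact Or.inr (Or.inl ⟨by omega, hq3⟩))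
  have hpow : 9 ≤ Fintype.card F ^ n := by
    calc 9 = 3 ^ 2 := by norm_num
      _ ≤ Fintype.card F ^ 2 := Nat.pow_le_pow_left hq3 2
      _ ≤ Fintype.card F ^ n := Nat.pow_le_pow_right (by omega) hn
  have hU : 0 < Module.finrank ℂ ↥(Wodd n F) := by
    rw [hfr]
    omega
  have hirr : σ.IsIrreducible := by
    refine irreducible_of_bound hperf σ hU ?_ ?_
    · intro d τ hτ hd2
      rw [hfr]
      exact Nat.div_le_of_le_mul (hLB d τ hτ hd2)
    · intro u hu
      apply Subtype.ext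
      refine eq_zero_of_fixed hn hodd ψ hψ ω hω (u : (Fin n → F) → ℂ) u.2 (fun g => ?_)
      have := congrArg Subtype.val (hu g)
      rwa [hσ, rhoOdd_apply] at this
  exact exists_irreducible_fin σ hirr _ hfr

end existAsm

end Cfsg.Agent.Lib.Helper27.WSP
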