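import Cfsg.Agent.Lib.Helper27.WSP.Defs
import Cfsg.Agent.Lib.Helper16.WSPQ5
import Cfsg.Agent.Lib.Helper21.WBRa
import Cfsg.Agent.Lib.Helper11.WBRb
import Cfsg.Agent.Lib.Helper22.SpED1
import Cfsg.Agent.Lib.Helper22.SpED2
import Cfsg.Agent.Lib.Helper16.SpEN

set_option autoImplicit false

namespace Cfsg.Agent.Lib.Helper27.WSP

open Matrix Cfsg.Agent.Lib.helper15.WB Cfsg.Agent.Lib.Helper22.SpED1 Cfsg.Agent.Lib.Helper22.SpED2
  Cfsg.Agent.Lib.Helper16.SpEN Cfsg.Agent.Lib.Helper18.SpE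

section lowerAsm

variable {F : Type*} [Field F] [Fintype F]

/-- the lower bound : `q^n - 1 ≤ 2 k` -/
theorem main_lower (n : ℕ) (hn : 2 ≤ n) (hodd : Odd (Fintype.card F)) (k : ℕ)
    (ρ : Representation ℂ ↥(Matrix.symplecticGroup (Fin n) F) (Fin k → ℂ))
    (hirr : ρ.IsIrreducible) (hk : 2 ≤ k) :
    Fintype.card F ^ n - 1 ≤ 2 * k := by
  classical
  have h22 : n = 2 → 3 ≤ Fintype.card F := by
    intro _
    have h3 : 1 < Fintype.card F := Fintype.one_lt_card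
    obtain ⟨r, hr⟩ := hodd
    omega
  -- a nontrivial additive character of F
  obtain ⟨χ0, hχ0⟩ : ∃ χ0 : AddChar F ℂ, χ0 ≠ 1 := by
    obtain ⟨ψ, hψ⟩ := (AddChar.exists_apply_ne_zero (α := F) (a := 1)).mpr one_ne_zero
    refine ⟨ψ, fun h => hψ ?_⟩
    rw [h, AddChar.one_apply]
  let i0 : Fin n := ⟨0, by omega⟩
  set φ : ↥(SymM n F) → ↥(Matrix.symplecticGroup (Fin n) F) := fun S => uS S with hφdef
  have hφ : ∀ a b, φ (a + b) = φ a * φ b := fun a b => uS_add a b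
  -- a nonzero symmetric matrix
  set S₀ : ↥(SymM n F) := ⟨Matrix.single i0 i0 1, Matrix.transpose_single _ _ _⟩ with hS₀
  have hS₀ne : S₀ ≠ 0 := by
    intro h
    have h1 := congrArg (fun S : ↥(SymM n F) => (S : Matrix (Fin n) (Fin n) F) i0 i0) h
    simp [hS₀] at h1
  have hne : ρ (φ S₀) ≠ 1 := rho_uS_ne_one n hn h22 ρ hirr hk _ hS₀ne
  obtain ⟨μ, hμocc, hμne⟩ := Cfsg.Agent.Lib.Helper21.WBRa.exists_occ_ne_one ρ φ hφ ⟨S₀, hne⟩
  obtain ⟨T₀, hT₀⟩ := chT_surj χ0 hχ0 μ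
  have hT₀ne : qfT T₀ ≠ 0 := by
    intro h
    apply hμne
    rw [← hT₀]
    have h0 : qfT T₀ = qfT (0 : Matrix (Fin n) (Fin n) F) := by
      rw [h]
      ext x
      rw [qfT_apply]
      simp
    rw [(chT_eq_iff χ0 hχ0 T₀ 0).mpr h0]
    ext S
    rw [chT_apply, Matrix.zero_mul, Matrix.trace_zero, AddChar.map_zero_eq_one, AddChar.one_apply]
  -- the set of quadratic forms
  set 𝒬 : Set (QuadraticForm F (Fin n → F)) :=
    {Q | ∃ T : Matrix (Fin n) (Fin n) F, qfT T = Q ∧ chT χ0 T ∈ Occ ρ φ} with h𝒬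
  have hst : Stable 𝒬 := by
    rintro Q ⟨T, rfl, hT⟩ g
    set A : Matrix (Fin n) (Fin n) F := LinearMap.toMatrix' (g : (Fin n → F) →ₗ[F] (Fin n → F))
      with hA
    set A' : Matrix (Fin n) (Fin n) F :=
      LinearMap.toMatrix' (g.symm : (Fin n → F) →ₗ[F] (Fin n → F)) with hA'
    have hAA' : A * A' = 1 := by
      rw [hA, hA', ← LinearMap.toMatrix'_comp]
      have : (g : (Fin n → F) →ₗ[F] (Fin n → F)) ∘ₗ (g.symm : (Fin n → F) →ₗ[F] (Fin n → F)) =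
          LinearMap.id := by
        ext x; simp
      rw [this, LinearMap.toMatrix'_id]
    have hA'A : A' * A = 1 := by
      rw [hA, hA', ← LinearMap.toMatrix'_comp]
      have : (g.symm : (Fin n → F) →ₗ[F] (Fin n → F)) ∘ₗ (g : (Fin n → F) →ₗ[F] (Fin n → F)) =
          LinearMap.id := by
        ext x; simp
      rw [this, LinearMap.toMatrix'_id]
    let Agl : GL (Fin n) F := ⟨A, A', hAA', hA'A⟩
    have hg : (g : (Fin n → F) →ₗ[F] (Fin n → F)) = Matrix.toLin' A := by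
      rw [hA, Matrix.toLin'_toMatrix']
    refine ⟨Aᵀ * T * A, ?_, ?_⟩
    · rw [hg, qfT_comp]
    · rw [← chT_comp_cgS]
      exact Cfsg.Agent.Lib.Helper11.WBRb.occ_comp ρ φ (lev Agl) (cgS A)
        (fun S => lev_conj Agl S) hT
  have hp : ∃ Q ∈ 𝒬, Q ≠ 0 :=
    ⟨qfT T₀, ⟨T₀, rfl, by rw [hT₀]; exact hμocc⟩, hT₀ne⟩
  have hb := qboundOdd_pi (F := F) hodd n 𝒬 hst hp
  have hcardV : Nat.card (Fin n → F) = Fintype.card F ^ n := by
    rw [Nat.card_eq_fintype_card, Fintype.card_fun, Fintype.card_fin]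
  rw [hcardV] at hb
  -- |𝒬| ≤ k
  have hle : 𝒬.ncard ≤ k := by
    haveI : Finite (QuadraticForm F (Fin n → F)) := DFunLike.finite _
    have hsel : ∀ Q : ↥𝒬, ∃ T : Matrix (Fin n) (Fin n) F, qfT T = (Q : QuadraticForm F (Fin n → F)) ∧
        chT χ0 T ∈ Occ ρ φ := fun Q => Q.2
    choose Tsel hTsel1 hTsel2 using hsel
    have hinj : Function.Injective (fun Q : ↥𝒬 => chT χ0 (Tsel Q)) := by
      intro Q Q' h
      have h' := (chT_eq_iff χ0 hχ0 (Tsel Q) (Tsel Q')).mp h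
      apply Subtype.ext
      rw [← hTsel1 Q, ← hTsel1 Q', h']
    haveI : Fintype ↥𝒬 := Fintype.ofFinite _
    have h1 := Cfsg.Agent.Lib.Helper21.WBRa.card_occ_le ρ φ hφ
      (Finset.univ.image (fun Q : ↥𝒬 => chT χ0 (Tsel Q)))
      (by
        intro ψ hψ
        obtain ⟨Q, _, rfl⟩ := Finset.mem_image.mp hψ
        exact hTsel2 Q)
    rw [Finset.card_image_of_injective _ hinj, Finset.card_univ, Module.finrank_fin_fun] at h1
    rw [← Nat.card_coe_set_eq, Nat.card_eq_fintype_card]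
    exact h1
  calc Fintype.card F ^ n - 1 ≤ 2 * 𝒬.ncard := hb
    _ ≤ 2 * k := Nat.mul_le_mul_left _ hle

end lowerAsm

end Cfsg.Agent.Lib.Helper27.WSP
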